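import Cfsg.Agent.H663.SP.Res
import Cfsg.Agent.H659.Rs.Box3
import Cfsg.Agent.H957.SpIndex
import Cfsg.Agent.H883.Bridge
import Cfsg.Agent.H905.SLProper
import Cfsg.Agent.S0244

/-!
# S3691: subgroups of `Sp_6(2^f)` with the primes `r_6` and `r_3` (helper663)

`sp6Lem` : the layer `Sp6Lem` of `H659/Rs/Box3.lean`.
-/

set_option autoImplicit false
set_option linter.unusedSectionVars false

namespace Cfsg.Agent.H663.SP

open Matrix Cfsg Cfsg.Geo Module
open Cfsg.Agent.ClassicalGeometry.SympBasic Cfsg.Agent.H659.Rs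
open scoped MatrixGroups

/-! ### numbers -/

theorem pm_dvd {n r : ℕ} (h : Pm n r) (i : ℕ) : r ∣ 2 ^ i - 1 ↔ n ∣ i := by
  have h1 : 1 ≤ 2 ^ i := Nat.one_le_two_pow
  rw [← h.ord, orderOf_dvd_iff_pow_eq_one, ← ZMod.natCast_eq_zero_iff (2 ^ i - 1) r, Nat.cast_sub h1, Nat.cast_pow,
    Nat.cast_one, sub_eq_zero]

theorem pm_lt {n r : ℕ} (h : Pm n r) (hn : 1 ≤ n) : n < r := by
  have := Fact.mk h.prime
  have h1 : ((2 : ℕ) : ZMod r) ≠ 0 := by
    intro h0
    have h2 := h.ord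
    rw [h0, orderOf_zero] at h2
    omega
  have h2 := ZMod.orderOf_dvd_card_sub_one h1
  rw [h.ord] at h2
  have h3 := h.prime.two_le
  have h4 := Nat.le_of_dvd (by omega) h2
  omega

theorem pm_ne_two {n r : ℕ} (h : Pm n r) (hn : 1 ≤ n) : r ≠ 2 := by
  rintro rfl
  have h2 := h.ord
  have h0 : ((2 : ℕ) : ZMod 2) = 0 := by decide
  rw [h0, orderOf_zero] at h2
  omega

theorem pm_not_two_pow {n r : ℕ} (h : Pm n r) (hn : 1 ≤ n) (i : ℕ) : ¬ r ∣ 2 ^ i := by
  intro h1
  have h2 := h.prime.dvd_of_dvd_pow h1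
  exact pm_ne_two h hn ((Nat.prime_dvd_prime_iff_eq h.prime Nat.prime_two).1 h2)

theorem pm_not_lt {n r : ℕ} (h : Pm n r) (hn : 1 ≤ n) {i : ℕ} (hi : 0 < i) (hin : i ≤ n) : ¬ r ∣ i := by
  intro h1
  have h2 := Nat.le_of_dvd hi h1
  have h3 := pm_lt h hn
  omega

/-- `r ∣ 2^i + 1` and `n ∣ i` is impossible -/
theorem pm_not_add_one {n r : ℕ} (h : Pm n r) (hn : 1 ≤ n) {i : ℕ} (hi : n ∣ i) : ¬ r ∣ 2 ^ i + 1 := by
  intro h1
  have h2 := (pm_dvd h i).2 hi
  have h3 : 1 ≤ 2 ^ i := Nat.one_le_two_pow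
  have h4 : r ∣ (2 ^ i + 1) - (2 ^ i - 1) := Nat.dvd_sub h1 h2
  rw [show (2 ^ i + 1) - (2 ^ i - 1) = 2 by omega] at h4
  exact pm_ne_two h hn ((Nat.prime_dvd_prime_iff_eq h.prime Nat.prime_two).1 h4)

theorem fac_two {a m : ℕ} (hm : ¬ 2 ∣ m) : (2 ^ a * m).factorization 2 = a := by
  have hm0 : m ≠ 0 := by
    rintro rfl
    exact hm (dvd_zero 2)
  rw [Nat.factorization_mul (by positivity) hm0, Nat.Prime.factorization_pow Nat.prime_two]
  simp [Nat.factorization_eq_zero_of_not_dvd hm]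

theorem two_pow_sub_odd {i : ℕ} (hi : 1 ≤ i) : ¬ 2 ∣ 2 ^ i - 1 := by
  have h1 : 1 ≤ 2 ^ i := Nat.one_le_two_pow
  have h2 : 2 ∣ 2 ^ i := dvd_pow_self 2 (by omega)
  omega

/-! ### groups -/

section sl

variable (E : Type) [Field E]

/-- `Sp_2 = SL_2` -/
def spSL : spGL 1 E →* Matrix.SpecialLinearGroup (Fin 2) E where
  toFun g := ⟨Matrix.reindex finSumFinEquiv finSumFinEquiv ((g : GL (Fin 1 ⊕ Fin 1) E) : Matrix (Fin 1 ⊕ Fin 1) (Fin 1 ⊕ Fin 1) E), by
    rw [Matrix.det_reindex_self]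
    exact (S0244.result _).1 (H909.mem_spGL_iff_symplectic.1 g.2)⟩
  map_one' := by
    apply Subtype.ext
    simp
  map_mul' A B := by
    apply Subtype.ext
    change Matrix.reindex finSumFinEquiv finSumFinEquiv (((A : GL (Fin 1 ⊕ Fin 1) E) : Matrix (Fin 1 ⊕ Fin 1) (Fin 1 ⊕ Fin 1) E) *
      ((B : GL (Fin 1 ⊕ Fin 1) E) : Matrix (Fin 1 ⊕ Fin 1) (Fin 1 ⊕ Fin 1) E)) =
      Matrix.reindex finSumFinEquiv finSumFinEquiv ((A : GL (Fin 1 ⊕ Fin 1) E) : Matrix (Fin 1 ⊕ Fin 1) (Fin 1 ⊕ Fin 1) E) *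
        Matrix.reindex finSumFinEquiv finSumFinEquiv ((B : GL (Fin 1 ⊕ Fin 1) E) : Matrix (Fin 1 ⊕ Fin 1) (Fin 1 ⊕ Fin 1) E)
    rw [Matrix.reindex_apply, Matrix.reindex_apply, Matrix.reindex_apply, Matrix.submatrix_mul_equiv]

theorem spSL_bij : Function.Bijective (spSL E) := by
  constructor
  · intro A B h
    apply Subtype.ext
    apply Units.ext
    apply (Matrix.reindex (finSumFinEquiv (m := 1) (n := 1)) finSumFinEquiv).injective
    exact congrArg Subtype.val h
  · intro A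
    have hdet : (Matrix.reindex (finSumFinEquiv (m := 1) (n := 1)).symm (finSumFinEquiv (m := 1) (n := 1)).symm
        (A : Matrix (Fin 2) (Fin 2) E)).det = 1 := by
      rw [Matrix.det_reindex_self]
      exact A.2
    have hu : IsUnit (Matrix.reindex (finSumFinEquiv (m := 1) (n := 1)).symm (finSumFinEquiv (m := 1) (n := 1)).symm
        (A : Matrix (Fin 2) (Fin 2) E)) := by
      rw [Matrix.isUnit_iff_isUnit_det, hdet]
      exact isUnit_one
    obtain ⟨g, hg⟩ := hu
    refine ⟨⟨g, H909.mem_spGL_iff_symplectic.2 ((S0244.result _).2 (by rw [hg, hdet]))⟩, ?_⟩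
    apply Subtype.ext
    change Matrix.reindex finSumFinEquiv finSumFinEquiv (g : Matrix (Fin 1 ⊕ Fin 1) (Fin 1 ⊕ Fin 1) E) = _
    rw [hg]
    ext i j
    simp

theorem sp_equiv_psl (hE : (2 : E) = 0) : Nonempty (spGL 1 E ≃* Matrix.ProjectiveSpecialLinearGroup (Fin 2) E) := by
  have h : Subgroup.center (Matrix.SpecialLinearGroup (Fin 2) E) = ⊥ := by
    rw [eq_bot_iff]
    intro A hA
    obtain ⟨r, hr, hA⟩ := Matrix.SpecialLinearGroup.mem_center_iff.1 hA
    rw [Fintype.card_fin] at hr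
    have h1 : (r - 1) ^ 2 = 0 := by linear_combination hr + (1 - r) * hE
    have h2 : r = 1 := sub_eq_zero.1 (pow_eq_zero_iff (two_ne_zero) |>.1 h1)
    rw [Subgroup.mem_bot]
    apply Subtype.ext
    rw [← hA, h2, map_one]
    rfl
  exact ⟨(MulEquiv.ofBijective (spSL E) (spSL_bij E)).trans
    ((QuotientGroup.quotientMulEquivOfEq h).trans QuotientGroup.quotientBot).symm⟩

end sl

theorem two_eq_zero {F : Type} [Field F] [Fintype F] {k : ℕ} (h : Fintype.card F = 2 ^ k) (hk : 1 ≤ k) : (2 : F) = 0 := by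
  have h1 := FiniteField.cast_card_eq_zero F
  rw [h, Nat.cast_pow] at h1
  have h2 := pow_eq_zero_iff (by omega : k ≠ 0) |>.1 h1
  exact_mod_cast h2

/-- scalars of `Sp` in characteristic two -/
theorem scalars_bot {F : Type} [Field F] {m : ℕ} (hm : 1 ≤ m) (h2 : (2 : F) = 0) {P : Subgroup (GL (Fin m ⊕ Fin m) F)}
    (hP : P ≤ spGL m F) : (scalars (Fin m ⊕ Fin m) F).subgroupOf P = ⊥ := by
  rw [eq_bot_iff]
  intro x hx
  rw [Subgroup.mem_subgroupOf, mem_scalars_iff] at hx
  obtain ⟨c, hc⟩ := hx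
  have h1 := hP x.2 (Pi.single (Sum.inr ⟨0, by omega⟩) 1) (Pi.single (Sum.inl ⟨0, by omega⟩) 1)
  change sympForm m F (((x : GL (Fin m ⊕ Fin m) F) : Matrix (Fin m ⊕ Fin m) (Fin m ⊕ Fin m) F) *ᵥ _)
    (((x : GL (Fin m ⊕ Fin m) F) : Matrix (Fin m ⊕ Fin m) (Fin m ⊕ Fin m) F) *ᵥ _) = _ at h1
  rw [hc, Matrix.smul_mulVec, Matrix.smul_mulVec, Matrix.one_mulVec, Matrix.one_mulVec, sympForm_smul_left,
    sympForm_smul_right, sympForm_single_inr_left, Pi.single_eq_same, mul_one] at h1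
  have h3 : ((c : F) - 1) ^ 2 = 0 := by linear_combination h1 + (1 - (c : F)) * h2
  have h4 : (c : F) = 1 := sub_eq_zero.1 (pow_eq_zero_iff (two_ne_zero) |>.1 h3)
  rw [Subgroup.mem_bot]
  apply Subtype.ext
  apply Units.ext
  rw [hc, h4, one_smul]
  rfl

theorem card_subgroupOf {G : Type*} [Group G] (A B : Subgroup G) :
    Nat.card (A.subgroupOf B) = Nat.card ↥(B ⊓ A) := by
  rw [← Subgroup.inf_subgroupOf_left]
  exact Nat.card_congr (Subgroup.subgroupOfEquivOfLe inf_le_left).toEquiv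

/-- **subgroups of `Sp_6(q)` with `r_6` and `r_3`** -/
theorem sp6Lem (h : Over3a) (h1 : BoxExt) (h2 : BoxPsl2) (h3 : BoxG2) (h4 : BoxG2i) : Sp6Lem := by
  intro F _ _ f r s hf hF hr hs R hR hrR hsR
  by_cases hne : R = spGL 3 F
  · exact Or.inl hne
  right
  have hF2 : (2 : F) = 0 := two_eq_zero hF (by omega)
  have hr6 : 6 * f < r := pm_lt hr (by omega)
  have hs3 : 3 * f < s := pm_lt hs (by omega)
  obtain ⟨H, hH, hRH⟩ := H905.exists_isMaximalIn_of_lt (lt_of_le_of_ne hR hne)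
  have hHS : H ≤ spGL 3 F := hH.1.le
  have hrH : r ∣ Nat.card H := hrR.trans (Subgroup.card_dvd_of_le hRH)
  rcases h hf hF hr H hH hrH with ⟨K, hK1, hK2, hK3, hK4⟩ | ⟨Q, hQ1, hQ2, hQ3, hQ4⟩ | ⟨P, hP1, hP2⟩
  · -- the normaliser of a cubic field
    obtain ⟨E, _, _, R1, hE, hR1, hd1, hd2⟩ := h1 Nat.prime_three le_rfl (by norm_num) K hK1 hK2 hK3 R hR (hRH.trans hK4)
    have hE' : Fintype.card E = 2 ^ (3 * f) := by rw [hE, hF, ← pow_mul, mul_comm]
    have hE2 : (2 : E) = 0 := two_eq_zero hE' (by omega)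
    have hrR1 : r ∣ Nat.card R1 := by
      rcases (hr.prime.dvd_mul).1 (hrR.trans hd1) with h5 | h5
      · exact absurd h5 (pm_not_lt hr (by omega) (by norm_num) (by omega))
      · exact h5
    have hsR1 : s ∣ Nat.card R1 := by
      rcases (hs.prime.dvd_mul).1 (hsR.trans hd1) with h5 | h5
      · exact absurd h5 (pm_not_lt hs (by omega) (by norm_num) (by omega))
      · exact h5
    have hcS : Nat.card (R1.subgroupOf (spGL 1 E)) = Nat.card R1 := by
      rw [card_subgroupOf, inf_eq_right.2 hR1]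
    have hr' : Pm (2 * (3 * f)) r := by
      have : 2 * (3 * f) = 6 * f := by ring
      rw [this]
      exact hr
    have hR1c : Nat.card R1 = 2 ^ (3 * f) * (2 ^ (6 * f) - 1) := by
      rcases h2 (by omega) hE' (sp_equiv_psl E hE2) hr' (R1.subgroupOf (spGL 1 E)) (by rw [hcS]; exact hrR1) with h5 | h5
      · have h6 : R1 = spGL 1 E := le_antisymm hR1 (Subgroup.subgroupOf_eq_top.1 h5)
        rw [h6, card_spGL_one, hE', ← pow_mul, show 3 * f * 2 = 6 * f by ring]
      · exfalso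
        rw [hcS] at h5
        rcases (hs.prime.dvd_mul).1 (hsR1.trans h5) with h6 | h6
        · exact pm_ne_two hs (by omega) ((Nat.prime_dvd_prime_iff_eq hs.prime Nat.prime_two).1 h6)
        · exact pm_not_add_one hs (by omega) dvd_rfl h6
    obtain ⟨c, hc⟩ := hd2
    have hR1pos : 0 < Nat.card R1 := Nat.card_pos
    have hc3 : c ∣ 3 := by
      rw [hc, mul_comm 3] at hd1
      exact Nat.dvd_of_mul_dvd_mul_left hR1pos hd1
    have hcodd : ¬ 2 ∣ c := fun h5 => absurd (h5.trans hc3) (by norm_num)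
    have hv : v2 R = 3 * f := by
      unfold v2
      rw [hc, hR1c, mul_assoc]
      apply fac_two
      intro h5
      rcases (Nat.prime_two.dvd_mul).1 h5 with h6 | h6
      · exact two_pow_sub_odd (by omega) h6
      · exact hcodd h6
    refine ⟨hv.ge, by omega, fun t ht htR => ?_⟩
    rw [hc, hR1c] at htR
    rcases (ht.prime.dvd_mul).1 htR with h5 | h5
    · rcases (ht.prime.dvd_mul).1 h5 with h6 | h6
      · exact pm_not_two_pow ht (by omega) _ h6
      · have h7 := (pm_dvd ht _).1 h6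
        obtain ⟨j, hj⟩ := h7
        have h8 : 6 * f = f * (4 * j) := by rw [hj]; ring
        have h9 : 6 = 4 * j := Nat.eq_of_mul_eq_mul_left (by omega : 0 < f) (by rw [← h8]; ring)
        omega
    · exact absurd (h5.trans hc3) (pm_not_lt ht (by omega) (by norm_num) (by omega))
  · -- the orthogonal group of minus type
    exfalso
    obtain ⟨Q', rfl, hnd⟩ := H883.Bridge.exists_quadraticForm hQ1
    have hι : Fintype.card (Fin 3 ⊕ Fin 3) = 2 * 3 := by rw [Fintype.card_sum, Fintype.card_fin]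
    have hP : ¬ H955.IsPlus Q' := by
      rintro ⟨U, hU, hd⟩
      apply hQ3
      refine ⟨U, le_top, hU, ?_⟩
      rw [finrank_top]
      exact hd
    have h5 := (hsR.trans (Subgroup.card_dvd_of_le (hRH.trans hQ4)))
    rw [H957.card_isometryGroup_minus Q' hnd (m := 3) (by norm_num) hι hP, hF] at h5
    simp only [Finset.prod_range_succ, Finset.prod_range_zero, show 3 - 1 = 2 from rfl, one_mul] at h5
    have hkill : ∀ i : ℕ, ¬ 3 * f ∣ f * i → ¬ s ∣ (2 ^ f) ^ i - 1 := by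
      intro i hi h6
      rw [← pow_mul] at h6
      exact hi ((pm_dvd hs _).1 h6)
    have hdv : ∀ i : ℕ, ¬ 3 ∣ i → ¬ 3 * f ∣ f * i := by
      rintro i hi ⟨j, hj⟩
      apply hi
      exact ⟨j, Nat.eq_of_mul_eq_mul_left (by omega : 0 < f) (by rw [hj]; ring)⟩
    rcases (hs.prime.dvd_mul).1 h5 with h6 | h6
    · rcases (hs.prime.dvd_mul).1 h6 with h7 | h7
      · rcases (hs.prime.dvd_mul).1 h7 with h8 | h8
        · exact pm_ne_two hs (by omega) ((Nat.prime_dvd_prime_iff_eq hs.prime Nat.prime_two).1 h8)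
        · rw [← pow_mul] at h8
          exact pm_not_two_pow hs (by omega) _ h8
      · rw [← pow_mul] at h7
        exact pm_not_add_one hs (by omega) ⟨1, by ring⟩ h7
    · rcases (hs.prime.dvd_mul).1 h6 with h7 | h7
      · exact hkill _ (hdv _ (by norm_num)) h7
      · exact hkill _ (hdv _ (by norm_num)) h7
  · -- `G_2(q)`
    obtain ⟨e⟩ := hP2
    have hPS : P ≤ spGL 3 F := hP1.le.trans hHS
    have hbot := scalars_bot (by norm_num) hF2 hPS
    have e' : P ≃* Lie.G2 F :=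
      ((QuotientGroup.quotientMulEquivOfEq hbot).trans QuotientGroup.quotientBot).symm.trans e
    obtain ⟨hPc, i, hi, hif, hiodd⟩ := h4 hf hF H P hHS hP1 ⟨e⟩
    have hPpos : 0 < Nat.card P := Nat.card_pos
    have hi0 : 0 < i := by
      rcases Nat.eq_zero_or_pos i with h5 | h5
      · rw [h5] at hiodd
        exact absurd hiodd (by decide)
      · exact h5
    have hile : i ≤ f := Nat.le_of_dvd (by omega) hif
    have hnorm : (P.subgroupOf H).Normal := by
      refine ⟨fun x hx g => ?_⟩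
      exact hP1.normal g g.2 x hx
    have hidx : (P.subgroupOf H).index = i := by
      have h5 := Subgroup.card_mul_index (P.subgroupOf H)
      rw [card_subgroupOf, inf_eq_right.2 hP1.le, hi, mul_comm i] at h5
      exact Nat.eq_of_mul_eq_mul_left hPpos h5
    have hrel : P.relIndex R ∣ i := by
      rw [← Subgroup.relIndex_subgroupOf hRH, ← hidx]
      exact Subgroup.relIndex_dvd_index_of_normal _ _
    have hRc : Nat.card ↥(R ⊓ P) * P.relIndex R = Nat.card R := by
      have h5 := Subgroup.card_mul_index (P.subgroupOf R)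
      rw [card_subgroupOf] at h5
      exact h5
    have hbig : ∀ {l : ℕ}, l.Prime → f < l → l ∣ Nat.card R → l ∣ Nat.card (R.subgroupOf P) := by
      intro l hl hfl hlR
      rw [card_subgroupOf, inf_comm]
      rw [← hRc] at hlR
      rcases (hl.dvd_mul).1 hlR with h5 | h5
      · exact h5
      · exfalso
        have h6 := Nat.le_of_dvd hi0 (h5.trans hrel)
        omega
    have htop := h3 hf hF ⟨e'⟩ hr hs (R.subgroupOf P) (hbig hr.prime (by omega) hrR) (hbig hs.prime (by omega) hsR)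
    have hPR : P ≤ R := Subgroup.subgroupOf_eq_top.1 htop
    rw [inf_eq_right.2 hPR] at hRc
    set c := P.relIndex R with hc
    have hcodd : ¬ 2 ∣ c := by
      intro h5
      have h6 := h5.trans hrel
      rw [← Nat.not_even_iff_odd] at hiodd
      exact hiodd (even_iff_two_dvd.2 h6)
    have hRc' : Nat.card R = 2 ^ (6 * f) * ((2 ^ (2 * f) - 1) * (2 ^ (6 * f) - 1) * c) := by
      rw [← hRc, hPc, ← pow_mul, ← pow_mul, mul_comm f 6, mul_comm f 2]
      ring
    have hv : v2 R = 6 * f := by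
      unfold v2
      rw [hRc']
      apply fac_two
      intro h5
      rcases (Nat.prime_two.dvd_mul).1 h5 with h6 | h6
      · rcases (Nat.prime_two.dvd_mul).1 h6 with h7 | h7
        · exact two_pow_sub_odd (by omega) h7
        · exact two_pow_sub_odd (by omega) h7
      · exact hcodd h6
    refine ⟨by omega, by omega, fun t ht htR => ?_⟩
    have hkill : ∀ j : ℕ, ¬ 4 ∣ j → ¬ t ∣ 2 ^ (j * f) - 1 := by
      intro j hj h6
      obtain ⟨k, hk⟩ := (pm_dvd ht _).1 h6
      apply hj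
      exact ⟨k, Nat.eq_of_mul_eq_mul_left (by omega : 0 < f) (by rw [mul_comm f j, hk]; ring)⟩
    rw [hRc'] at htR
    rcases (ht.prime.dvd_mul).1 htR with h5 | h5
    · exact pm_not_two_pow ht (by omega) _ h5
    · rcases (ht.prime.dvd_mul).1 h5 with h6 | h6
      · rcases (ht.prime.dvd_mul).1 h6 with h7 | h7
        · exact hkill 2 (by norm_num) h7
        · exact hkill 6 (by norm_num) h7
      · have h7 := h6.trans hrel
        exact pm_not_lt ht (by omega) hi0 (by omega) h7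

end Cfsg.Agent.H663.SP
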