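import Cfsg.Agent.H953.Sympl
import Cfsg.Agent.H909.SpBasic
import Cfsg.Agent.S0245

/-!
# S3691: groups acting on a space with an alternating form (helper663)

`exists_hom` : `ρ : C →* End U` preserving a nondegenerate alternating form, `dim U = 2 n`: a homomorphism `C →* Sp_2n`
with the same kernel.
-/

set_option autoImplicit false
set_option linter.unusedSectionVars false

namespace Cfsg.Agent.H663.SP

open Matrix Cfsg Cfsg.Geo Module
open Cfsg.Agent.ClassicalGeometry.SympBasic
open scoped MatrixGroups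

theorem card_spGL (n : ℕ) (F : Type*) [Field F] [Fintype F] :
    Nat.card (spGL n F) = Nat.card (Matrix.symplecticGroup (Fin n) F) := by
  refine Nat.card_congr
    ⟨fun g => ⟨(g.1 : Matrix (Fin n ⊕ Fin n) (Fin n ⊕ Fin n) F), mem_symplecticGroup_iff.2 g.2⟩,
      fun A => ⟨⟨A.1, (A⁻¹).1, by rw [← Submonoid.coe_mul, mul_inv_cancel]; rfl,
        by rw [← Submonoid.coe_mul, inv_mul_cancel]; rfl⟩, fun u v => mem_symplecticGroup_iff.1 A.2 u v⟩, ?_, ?_⟩
  · intro g
    exact Subtype.ext (Units.ext rfl)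
  · intro A
    rfl

theorem card_spGL_one (F : Type*) [Field F] [Fintype F] :
    Nat.card (spGL 1 F) = Fintype.card F * (Fintype.card F ^ 2 - 1) := by
  rw [card_spGL, Cfsg.Agent.S0245.result rfl 1]
  simp

/-- homomorphisms into the symplectic group -/
theorem exists_hom {F : Type*} [Field F] {U : Type*} [AddCommGroup U] [Module F U] [FiniteDimensional F U]
    (B : LinearMap.BilinForm F U) (hA : B.IsAlt) (hnd : ∀ u, (∀ v, B u v = 0) → u = 0) {n : ℕ}
    (hn : finrank F U = 2 * n) {C : Type*} [Group C] (ρ : C →* Module.End F U)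
    (hρ : ∀ g u v, B (ρ g u) (ρ g v) = B u v) :
    ∃ φ : C →* GL (Fin n ⊕ Fin n) F, (∀ g, φ g ∈ spGL n F) ∧ ∀ g, φ g = 1 ↔ ρ g = 1 := by
  obtain ⟨m, b, h1, h2, h3⟩ := H953.exists_symplectic_basis B hA hnd
  have hm : m = n := by
    have h4 := Module.finrank_eq_card_basis b
    rw [hn, Fintype.card_sum, Fintype.card_fin] at h4
    omega
  subst hm
  have hB : LinearMap.BilinForm.toMatrix b B = -Matrix.J (Fin m) F := by
    ext i j
    rw [LinearMap.BilinForm.toMatrix_apply, Matrix.neg_apply]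
    unfold Matrix.J
    rcases i with i | i <;> rcases j with j | j
    · rw [h2, Matrix.fromBlocks_apply₁₁]
      simp
    · rw [h1, Matrix.fromBlocks_apply₁₂]
      simp [Matrix.one_apply]
    · rw [Matrix.fromBlocks_apply₂₁, ← hA.neg_eq, h1]
      simp [Matrix.one_apply, eq_comm]
    · rw [h3, Matrix.fromBlocks_apply₂₂]
      simp
  have hBs : ∀ u v, B u v = -sympForm m F (b.repr u) (b.repr v) := by
    intro u v
    rw [LinearMap.BilinForm.apply_eq_dotProduct_toMatrix_mulVec b, hB, Matrix.neg_mulVec, dotProduct_neg,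
      sympForm_def]
  let T : Module.End F U →* Matrix (Fin m ⊕ Fin m) (Fin m ⊕ Fin m) F :=
    ((LinearMap.toMatrixAlgEquiv b : Module.End F U ≃ₐ[F] Matrix (Fin m ⊕ Fin m) (Fin m ⊕ Fin m) F) :
      Module.End F U →* Matrix (Fin m ⊕ Fin m) (Fin m ⊕ Fin m) F)
  have hT : ∀ f : Module.End F U, T f = LinearMap.toMatrix b b f := fun f => rfl
  let φ : C →* GL (Fin m ⊕ Fin m) F := (T.comp ρ).toHomUnits
  have hφ : ∀ g, ((φ g : GL (Fin m ⊕ Fin m) F) : Matrix (Fin m ⊕ Fin m) (Fin m ⊕ Fin m) F) =
      LinearMap.toMatrix b b (ρ g) := fun g => rfl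
  refine ⟨φ, fun g => ?_, fun g => ?_⟩
  · rw [H909.mem_spGL_iff]
    intro u v
    obtain ⟨u, rfl⟩ : ∃ u', u = b.repr u' := ⟨b.repr.symm (Finsupp.equivFunOnFinite.symm u), by simp⟩
    obtain ⟨v, rfl⟩ : ∃ v', v = b.repr v' := ⟨b.repr.symm (Finsupp.equivFunOnFinite.symm v), by simp⟩
    rw [hφ, LinearMap.toMatrix_mulVec_repr, LinearMap.toMatrix_mulVec_repr]
    have := hρ g u v
    rw [hBs, hBs] at this
    exact neg_injective this
  · constructor
    · intro h
      have h5 := hφ g
      rw [h, Units.val_one] at h5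
      apply (LinearMap.toMatrix b b).injective
      rw [← h5, LinearMap.toMatrix_one]
    · intro h
      apply Units.ext
      rw [hφ, h, LinearMap.toMatrix_one, Units.val_one]

/-- the order of a group and the image -/
theorem card_eq {C D : Type*} [Group C] [Group D] (φ : C →* D) : Nat.card C = Nat.card φ.ker * Nat.card φ.range := by
  rw [← Subgroup.index_ker, Subgroup.card_mul_index]

end Cfsg.Agent.H663.SP
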